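import Cfsg.Agent.Lib.Extra.SuzUnique.UFourTwo.TabF0
import Cfsg.Agent.Lib.Extra.SuzUnique.UFourTwo.TabC0
import Cfsg.Agent.Lib.Extra.SuzUnique.UFourTwo.TabC1
import Cfsg.Agent.Lib.Extra.SuzUnique.UFourTwo.TabC2
import Cfsg.Agent.Lib.Extra.SuzUnique.UFourTwo.TabC3
import Cfsg.Agent.Lib.Extra.SuzUnique.UFourTwo.TabC4
import Cfsg.Agent.Lib.Extra.SuzUnique.UFourTwo.TabC5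
import Cfsg.Agent.Lib.Extra.SuzUnique.UFourTwo.TabP0
import Cfsg.Agent.Lib.Extra.SuzUnique.UFourTwo.TabZ0

/-! Generated certificate. -/

set_option autoImplicit false
set_option maxRecDepth 20000

namespace Cfsg.Lib.Extra.SuzUnique.UFourTwo

open Cfsg.Lib.CosetEnum

/-- Table. -/
def tabF : Tab :=
  tabF_0

/-- Table. -/
def tabC : Tab :=
  (.node 12288 (.node 8192 (.node 4096 tabC_0 tabC_1) tabC_2) (.node 8192 (.node 4096 tabC_3 tabC_4) tabC_5))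

/-- Table. -/
def tabP : Tab :=
  tabP_0

/-- Table. -/
def tabZ : Tab :=
  tabZ_0

/-- The relator rotations in use. -/
def relWords : List (List Nat) :=
  [[2, 0, 2, 0, 2, 0, 2, 0],
    [2, 1, 2, 1, 2, 1, 2, 1],
    [0, 1, 0, 1, 0, 1, 0, 1, 0, 1],
    [1, 0, 1, 0, 1, 0, 1, 0, 1, 0],
    [1, 2, 0, 2, 1, 0, 2, 1, 2, 0, 2, 1, 0, 2, 1, 2, 0, 2, 1, 0, 2],
    [1, 2, 1, 2, 1, 2, 1, 2],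
    [0, 2, 0, 2, 0, 2, 0, 2],
    [0, 2, 1, 2, 0, 2, 1, 0, 2, 1, 2, 0, 2, 1, 0, 2, 1, 2, 0, 2, 1],
    [2, 0, 2, 1, 0, 2, 0, 2, 1, 0, 2, 0, 2, 1, 0, 2, 0, 2, 1, 0, 2, 0, 2, 1, 0],
    [1, 2, 0, 2, 1, 2, 0, 1, 2, 0, 2, 1, 2, 0, 1, 2, 0, 2, 1, 2, 0],
    [2, 1, 0, 2, 0, 2, 1, 0, 2, 0, 2, 1, 0, 2, 0, 2, 1, 0, 2, 0, 2, 1, 0, 2, 0],
    [2, 1, 2, 0, 1, 2, 0, 2, 1, 2, 0, 1, 2, 0, 2, 1, 2, 0, 1, 2, 0],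
    [0, 2, 1, 2, 0, 1, 2, 0, 2, 1, 2, 0, 1, 2, 0, 2, 1, 2, 0, 1, 2],
    [2, 0, 2, 1, 0, 2, 1, 2, 0, 2, 1, 0, 2, 1, 2, 0, 2, 1, 0, 2, 1],
    [0, 1, 2, 0, 2, 1, 2, 0, 1, 2, 0, 2, 1, 2, 0, 1, 2, 0, 2, 1, 2],
    [0, 1, 2, 0, 2, 0, 1, 2, 0, 2, 0, 1, 2, 0, 2, 0, 1, 2, 0, 2, 0, 1, 2, 0, 2],
    [2, 1, 0, 2, 1, 2, 0, 2, 1, 0, 2, 1, 2, 0, 2, 1, 0, 2, 1, 2, 0],
    [2, 0, 1, 2, 0, 2, 1, 2, 0, 1, 2, 0, 2, 1, 2, 0, 1, 2, 0, 2, 1],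
    [1, 0, 2, 1, 2, 0, 2, 1, 0, 2, 1, 2, 0, 2, 1, 0, 2, 1, 2, 0, 2],
    [0, 2, 0, 2, 1, 0, 2, 0, 2, 1, 0, 2, 0, 2, 1, 0, 2, 0, 2, 1, 0, 2, 0, 2, 1],
    [2, 1, 2, 0, 2, 1, 0, 2, 1, 2, 0, 2, 1, 0, 2, 1, 2, 0, 2, 1, 0],
    [0, 0],
    [2, 2],
    [1, 2, 0, 1, 2, 0, 2, 1, 2, 0, 1, 2, 0, 2, 1, 2, 0, 1, 2, 0, 2],
    [2, 0, 1, 2, 0, 2, 0, 1, 2, 0, 2, 0, 1, 2, 0, 2, 0, 1, 2, 0, 2, 0, 1, 2, 0],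
    [0, 2, 1, 0, 2, 1, 2, 0, 2, 1, 0, 2, 1, 2, 0, 2, 1, 0, 2, 1, 2],
    [1, 1],
    [0, 2, 1, 0, 2, 0, 2, 1, 0, 2, 0, 2, 1, 0, 2, 0, 2, 1, 0, 2, 0, 2, 1, 0, 2],
    [0, 2, 0, 1, 2, 0, 2, 0, 1, 2, 0, 2, 0, 1, 2, 0, 2, 0, 1, 2, 0, 2, 0, 1, 2],
    [1, 2, 0, 2, 0, 1, 2, 0, 2, 0, 1, 2, 0, 2, 0, 1, 2, 0, 2, 0, 1, 2, 0, 2, 0],
    [2, 0, 2, 0, 1, 2, 0, 2, 0, 1, 2, 0, 2, 0, 1, 2, 0, 2, 0, 1, 2, 0, 2, 0, 1],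
    [2, 0, 2, 1, 2, 0, 1, 2, 0, 2, 1, 2, 0, 1, 2, 0, 2, 1, 2, 0, 1],
    [1, 0, 2, 0, 2, 1, 0, 2, 0, 2, 1, 0, 2, 0, 2, 1, 0, 2, 0, 2, 1, 0, 2, 0, 2]]

/-- Subgroup words. -/
def subWords : List (List Nat) :=
  [[0],
    [1]]

end Cfsg.Lib.Extra.SuzUnique.UFourTwo
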